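import Mathlib

/-! Splitting of `C ⊗_A M → C ⊗_B M` for a formally unramified algebra `B/A` of essentially
finite type, in terms of base-change data; uniqueness among balanced sections. -/

universe u
open TensorProduct

namespace Groth.Agent.H5.EtSplit

section Alg

variable {A B C M P Q : Type*} [CommRing A] [CommRing B] [CommRing C]
  [Algebra A B] [Algebra B C] [Algebra A C] [IsScalarTower A B C]
  [AddCommGroup M] [Module A M] [Module B M] [IsScalarTower A B M]
  [AddCommGroup P] [Module A P] [Module B P] [Module C P]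
  [IsScalarTower A C P] [IsScalarTower B C P] [IsScalarTower A B P]
  [AddCommGroup Q] [Module B Q] [Module C Q] [IsScalarTower B C Q]
  {ι : M →ₗ[A] P} (hι : IsBaseChange C ι)

/-- the action of `b : B` on the `M`-factor of `P = C ⊗ M`. -/
noncomputable def Lop (b : B) : P →ₗ[C] P :=
  hι.lift (ι ∘ₗ (LinearMap.lsmul B M b).restrictScalars A)

lemma Lop_ι (b : B) (m : M) : Lop hι b (ι m) = ι (b • m) := by
  unfold Lop
  rw [IsBaseChange.lift_eq]
  rfl

lemma Lop_eq_of (b : B) (L : P →ₗ[C] P) (hL : ∀ m, L (ι m) = ι (b • m)) : L = Lop hι b :=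
  hι.algHom_ext _ _ fun m => by rw [hL, Lop_ι]

lemma Lop_mul (b b' : B) (x : P) : Lop hι (b * b') x = Lop hι b (Lop hι b' x) := by
  have : Lop hι (b * b') = (Lop hι b).comp (Lop hι b') := by
    refine hι.algHom_ext _ _ fun m => ?_
    rw [LinearMap.comp_apply, Lop_ι, Lop_ι, Lop_ι, mul_smul]
  rw [this]; rfl

lemma Lop_comm (b b' : B) (x : P) : Lop hι b (Lop hι b' x) = Lop hι b' (Lop hι b x) := by
  rw [← Lop_mul, ← Lop_mul, mul_comm]

lemma Lop_add (b b' : B) (x : P) : Lop hι (b + b') x = Lop hι b x + Lop hι b' x := by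
  have : Lop hι (b + b') = Lop hι b + Lop hι b' := by
    refine hι.algHom_ext _ _ fun m => ?_
    rw [LinearMap.add_apply, Lop_ι, Lop_ι, Lop_ι, add_smul, map_add]
  rw [this]; rfl

lemma Lop_smul (a : A) (b : B) (x : P) : Lop hι (a • b) x = a • Lop hι b x := by
  refine hι.inductionOn x (fun x => Lop hι (a • b) x = a • Lop hι b x) ?_ ?_ ?_ ?_
  · simp
  · intro m; rw [Lop_ι, Lop_ι, smul_assoc, map_smul]
  · intro c n hn; rw [map_smul, map_smul, hn, smul_comm]
  · intro n₁ n₂ h₁ h₂; rw [map_add, map_add, h₁, h₂, smul_add]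

lemma Lop_bsmul (b b₁ : B) (y : P) : Lop hι b (b₁ • y) = b₁ • Lop hι b y :=
  (Lop hι b).map_smul_of_tower b₁ y

/-- `Ψ_x : B ⊗ B → P`, `b ⊗ b' ↦ b • L_{b'} x`. -/
noncomputable def Psi (x : P) : B ⊗[A] B →ₗ[A] P :=
  TensorProduct.lift (LinearMap.mk₂ A (fun b b' => b • Lop hι b' x)
    (fun b₁ b₂ b' => by rw [add_smul])
    (fun a b b' => by rw [smul_assoc])
    (fun b b₁ b₂ => by rw [Lop_add, smul_add])
    (fun a b b' => by rw [Lop_smul, smul_comm]))

lemma Psi_tmul (x : P) (b b' : B) : Psi hι x (b ⊗ₜ b') = b • Lop hι b' x := by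
  unfold Psi; rw [TensorProduct.lift.tmul]; rfl

lemma Psi_left_mul (x : P) (b : B) (t : B ⊗[A] B) :
    Psi hι x ((b ⊗ₜ[A] (1 : B)) * t) = b • Psi hι x t := by
  induction t using TensorProduct.induction_on with
  | zero => simp
  | tmul b₁ b₂ =>
    rw [Algebra.TensorProduct.tmul_mul_tmul, Psi_tmul, Psi_tmul, one_mul, mul_smul]
  | add t₁ t₂ h₁ h₂ => rw [mul_add, map_add, map_add, h₁, h₂, smul_add]

lemma Psi_right_mul (x : P) (b : B) (t : B ⊗[A] B) :
    Psi hι x (((1 : B) ⊗ₜ[A] b) * t) = Psi hι (Lop hι b x) t := by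
  induction t using TensorProduct.induction_on with
  | zero => simp
  | tmul b₁ b₂ =>
    rw [Algebra.TensorProduct.tmul_mul_tmul, Psi_tmul, Psi_tmul, one_mul, mul_comm, Lop_mul]
  | add t₁ t₂ h₁ h₂ => rw [mul_add, map_add, map_add, h₁, h₂]

lemma Lop_Psi (x : P) (b : B) (t : B ⊗[A] B) :
    Lop hι b (Psi hι x t) = Psi hι (Lop hι b x) t := by
  induction t using TensorProduct.induction_on with
  | zero => simp
  | tmul b₁ b₂ => rw [Psi_tmul, Psi_tmul, Lop_bsmul, Lop_comm]
  | add t₁ t₂ h₁ h₂ => rw [map_add, map_add, map_add, h₁, h₂]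

lemma Psi_add_x (x y : P) (t : B ⊗[A] B) : Psi hι (x + y) t = Psi hι x t + Psi hι y t := by
  induction t using TensorProduct.induction_on with
  | zero => simp
  | tmul b₁ b₂ => rw [Psi_tmul, Psi_tmul, Psi_tmul, map_add, smul_add]
  | add t₁ t₂ h₁ h₂ => rw [map_add, map_add, map_add, h₁, h₂]; abel

lemma Psi_smul_x (c : C) (x : P) (t : B ⊗[A] B) : Psi hι (c • x) t = c • Psi hι x t := by
  induction t using TensorProduct.induction_on with
  | zero => simp
  | tmul b₁ b₂ => rw [Psi_tmul, Psi_tmul, map_smul, smul_comm]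
  | add t₁ t₂ h₁ h₂ => rw [map_add, map_add, h₁, h₂, smul_add]

lemma Psi_zero_x (t : B ⊗[A] B) : Psi hι (0 : P) t = 0 := by
  have := Psi_smul_x hι (0 : C) (0 : P) t
  rwa [zero_smul, zero_smul] at this

lemma Psi_balanced (x : P) (hx : ∀ b : B, Lop hι b x = b • x) (t : B ⊗[A] B) :
    Psi hι x t = (Algebra.TensorProduct.lmul' A t : B) • x := by
  induction t using TensorProduct.induction_on with
  | zero => simp
  | tmul b₁ b₂ => rw [Psi_tmul, hx, Algebra.TensorProduct.lmul'_apply_tmul, mul_smul]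
  | add t₁ t₂ h₁ h₂ => rw [map_add, map_add, h₁, h₂, add_smul]

variable {ρ : M →ₗ[B] Q} (hρ : IsBaseChange C ρ) {ε : P →ₗ[C] Q} (hε : ∀ m, ε (ι m) = ρ m)

include hε in
lemma eps_Psi (m : M) (t : B ⊗[A] B) :
    ε (Psi hι (ι m) t) = (Algebra.TensorProduct.lmul' A t : B) • ρ m := by
  induction t using TensorProduct.induction_on with
  | zero => simp
  | tmul b₁ b₂ =>
    rw [Psi_tmul, ε.map_smul_of_tower, Lop_ι, hε, map_smul, Algebra.TensorProduct.lmul'_apply_tmul,
      mul_smul]
  | add t₁ t₂ h₁ h₂ => rw [map_add, map_add, map_add, h₁, h₂, add_smul]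

variable [Algebra.FormallyUnramified A B] [Algebra.EssFiniteType A B]

/-- the `B`-linear map `M → P`, `m ↦ Σ bᵢ • ι (bᵢ' m)` for the separability element. -/
noncomputable def sigma : M →ₗ[B] P where
  toFun m := Psi hι (ι m) (Algebra.FormallyUnramified.elem A B)
  map_add' m m' := by rw [map_add, Psi_add_x]
  map_smul' b m := by
    rw [RingHom.id_apply, ← Lop_ι hι, ← Psi_right_mul,
      Algebra.FormallyUnramified.one_tmul_mul_elem, Psi_left_mul]

/-- the canonical splitting `Q = C ⊗_B M → P = C ⊗_A M`. -/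
noncomputable def splitting : Q →ₗ[C] P := hρ.lift (sigma hι)

lemma splitting_ρ (m : M) :
    splitting hι hρ (ρ m) = Psi hι (ι m) (Algebra.FormallyUnramified.elem A B) := by
  unfold splitting
  rw [IsBaseChange.lift_eq]
  rfl

include hε in
lemma eps_splitting (q : Q) : ε (splitting hι hρ q) = q := by
  have : ε.comp (splitting hι hρ) = LinearMap.id := by
    refine hρ.algHom_ext _ _ fun m => ?_
    rw [LinearMap.comp_apply, splitting_ρ, eps_Psi hι hε, Algebra.FormallyUnramified.lmul_elem (R := A) (S := B),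
      one_smul]
    rfl
  exact LinearMap.congr_fun this q

lemma splitting_balanced (b : B) (q : Q) :
    Lop hι b (splitting hι hρ q) = b • splitting hι hρ q := by
  refine hρ.inductionOn q (fun q => Lop hι b (splitting hι hρ q) = b • splitting hι hρ q)
    ?_ ?_ ?_ ?_
  · simp
  · intro m
    rw [splitting_ρ, Lop_Psi, ← Psi_right_mul, Algebra.FormallyUnramified.one_tmul_mul_elem,
      Psi_left_mul]
  · intro c n hn
    rw [map_smul, map_smul, hn, smul_comm]
  · intro n₁ n₂ h₁ h₂
    rw [map_add, map_add, h₁, h₂, smul_add]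

include hε in
lemma splitting_eps (x : P) :
    splitting hι hρ (ε x) = Psi hι x (Algebra.FormallyUnramified.elem A B) := by
  refine hι.inductionOn x
    (fun x => splitting hι hρ (ε x) = Psi hι x (Algebra.FormallyUnramified.elem A B)) ?_ ?_ ?_ ?_
  · rw [map_zero, map_zero, Psi_zero_x]
  · intro m; rw [hε, splitting_ρ]
  · intro c n hn; rw [map_smul, map_smul, hn, Psi_smul_x]
  · intro n₁ n₂ h₁ h₂; rw [map_add, map_add, h₁, h₂, Psi_add_x]

include hε in
/-- uniqueness: a balanced section of `ε` is the canonical splitting. -/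
theorem splitting_unique (s' : Q → P) (hs' : ∀ q, ε (s' q) = q)
    (hbal : ∀ (b : B) (q : Q), Lop hι b (s' q) = b • s' q) (q : Q) :
    s' q = splitting hι hρ q := by
  have h1 := splitting_eps hι hρ hε (s' q)
  rw [hs', Psi_balanced hι (s' q) (fun b => hbal b q), Algebra.FormallyUnramified.lmul_elem (R := A) (S := B),
    one_smul] at h1
  exact h1.symm

end Alg


section Restrict

variable {A B M : Type*} [CommRing A] [CommRing B] [Algebra A B]
  [AddCommGroup M] [Module A M] [Module B M] [IsScalarTower A B M]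
  {C P Q : Type*} [CommRing C] [Algebra B C] [Algebra A C] [IsScalarTower A B C]
  [AddCommGroup P] [Module A P] [Module B P] [Module C P]
  [IsScalarTower A C P] [IsScalarTower B C P] [IsScalarTower A B P]
  [AddCommGroup Q] [Module B Q] [Module C Q] [IsScalarTower B C Q]
  {C' P' Q' : Type*} [CommRing C'] [Algebra B C'] [Algebra A C'] [IsScalarTower A B C']
  [AddCommGroup P'] [Module A P'] [Module B P'] [Module C' P']
  [IsScalarTower A C' P'] [IsScalarTower B C' P'] [IsScalarTower A B P']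
  [AddCommGroup Q'] [Module B Q'] [Module C' Q'] [IsScalarTower B C' Q']
  {ι : M →ₗ[A] P} (hι : IsBaseChange C ι) {ρ : M →ₗ[B] Q} (hρ : IsBaseChange C ρ)
  {ι' : M →ₗ[A] P'} (hι' : IsBaseChange C' ι') {ρ' : M →ₗ[B] Q'} (hρ' : IsBaseChange C' ρ')
  (γ : C →+* C') (hγ : ∀ b : B, γ (algebraMap B C b) = algebraMap B C' b)
  (rP : P →+ P') (hrP : ∀ (c : C) (x : P), rP (c • x) = γ c • rP x)
  (hrPι : ∀ m, rP (ι m) = ι' m)
  (rQ : Q →+ Q') (hrQ : ∀ (c : C) (x : Q), rQ (c • x) = γ c • rQ x)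
  (hrQρ : ∀ m, rQ (ρ m) = ρ' m)

include hγ hrP in
lemma rP_bsmul (b : B) (x : P) : rP (b • x) = b • rP x := by
  rw [← algebraMap_smul C b x, hrP, hγ, algebraMap_smul]

include hγ hrP hrPι in
lemma rP_Lop (b : B) (x : P) : rP (Lop hι b x) = Lop hι' b (rP x) := by
  refine hι.inductionOn x (fun x => rP (Lop hι b x) = Lop hι' b (rP x)) ?_ ?_ ?_ ?_
  · simp
  · intro m; rw [Lop_ι, hrPι, hrPι, Lop_ι]
  · intro c n hn; rw [map_smul, hrP, hn, hrP, map_smul]
  · intro n₁ n₂ h₁ h₂; rw [map_add, map_add, map_add, map_add, h₁, h₂]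

include hγ hrP hrPι in
lemma rP_Psi (x : P) (t : B ⊗[A] B) : rP (Psi hι x t) = Psi hι' (rP x) t := by
  induction t using TensorProduct.induction_on with
  | zero => simp
  | tmul b₁ b₂ =>
    rw [Psi_tmul, Psi_tmul, rP_bsmul γ hγ rP hrP, rP_Lop hι hι' γ hγ rP hrP hrPι]
  | add t₁ t₂ h₁ h₂ => rw [map_add, map_add, map_add, h₁, h₂]

variable [Algebra.FormallyUnramified A B] [Algebra.EssFiniteType A B]

include hγ hrP hrPι hrQ hrQρ in
/-- the canonical splitting is compatible with change of `C`. -/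
theorem rP_splitting (q : Q) :
    rP (splitting hι hρ q) = splitting hι' hρ' (rQ q) := by
  refine hρ.inductionOn q (fun q => rP (splitting hι hρ q) = splitting hι' hρ' (rQ q))
    ?_ ?_ ?_ ?_
  · simp
  · intro m
    rw [splitting_ρ, hrQρ, splitting_ρ, rP_Psi hι hι' γ hγ rP hrP hrPι, hrPι]
  · intro c n hn
    rw [map_smul, hrP, hn, hrQ, map_smul]
  · intro n₁ n₂ h₁ h₂
    rw [map_add, map_add, map_add, map_add, h₁, h₂]

end Restrict

section ChangeBase

variable {C P Q : Type*} [CommRing C] [AddCommGroup P] [Module C P] [AddCommGroup Q] [Module C Q]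
  {A B M : Type*} [CommRing A] [CommRing B] [Algebra A B] [Algebra B C] [Algebra A C]
  [IsScalarTower A B C]
  [AddCommGroup M] [Module A M] [Module B M] [IsScalarTower A B M]
  [Module A P] [Module B P] [IsScalarTower A C P] [IsScalarTower B C P] [IsScalarTower A B P]
  [Module B Q] [IsScalarTower B C Q]
  {A' B' M' : Type*} [CommRing A'] [CommRing B'] [Algebra A' B'] [Algebra B' C] [Algebra A' C]
  [IsScalarTower A' B' C]
  [AddCommGroup M'] [Module A' M'] [Module B' M'] [IsScalarTower A' B' M']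
  [Module A' P] [Module B' P] [IsScalarTower A' C P] [IsScalarTower B' C P]
  [IsScalarTower A' B' P]
  [Module B' Q] [IsScalarTower B' C Q]
  {ι : M →ₗ[A] P} (hι : IsBaseChange C ι) {ρ : M →ₗ[B] Q} (hρ : IsBaseChange C ρ)
  {ι' : M' →ₗ[A'] P} (hι' : IsBaseChange C ι') {ρ' : M' →ₗ[B'] Q} (hρ' : IsBaseChange C ρ')
  {ε : P →ₗ[C] Q} (hε : ∀ m, ε (ι m) = ρ m) (hε' : ∀ m, ε (ι' m) = ρ' m)
  [Algebra.FormallyUnramified A B] [Algebra.EssFiniteType A B]
  [Algebra.FormallyUnramified A' B'] [Algebra.EssFiniteType A' B']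
  (β : B →+* B') (hβ : ∀ b, algebraMap B' C (β b) = algebraMap B C b)
  (rM : M → M') (hrM : ∀ (b : B) (m : M), rM (b • m) = β b • rM m)
  (hιr : ∀ m, ι m = ι' (rM m))

include hε hε' hβ hrM hιr in
/-- the canonical splitting does not depend on the base data. -/
theorem splitting_changeBase (q : Q) : splitting hι' hρ' q = splitting hι hρ q := by
  refine splitting_unique hι hρ hε (fun q => splitting hι' hρ' q)
    (fun q => eps_splitting hι' hρ' hε' q) (fun b q => ?_) q
  have hL : Lop hι b = Lop hι' (β b) :=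
    (Lop_eq_of hι b (Lop hι' (β b)) (fun m => by rw [hιr, Lop_ι, ← hrM, ← hιr])).symm
  rw [hL, splitting_balanced, ← algebraMap_smul C (β b), hβ, algebraMap_smul]

end ChangeBase

end Groth.Agent.H5.EtSplit
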