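import Groth.Agent.Lib.Helper5.EtSplit.Alg
import Groth.Agent.Lib.Helper5.ExtTilde.Res
import Groth.Agent.Lib.Helper5.Lim.ModuleGlue
import Groth.Agent.Lib.Lead.QC.Counit
import Groth.Agent.Lib.Lead.QC.Push

/-! For a finite étale morphism `p : X' ⟶ X` and a quasi-coherent module `V'` on `X'`, the counit
`p^* p_* V' ⟶ V'` is a split epimorphism: local splittings from the separability idempotent. -/

universe u
open CategoryTheory Limits AlgebraicGeometry TopologicalSpace Opposite TensorProduct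

namespace Groth.Agent.H5.EtSplit
open Groth.Agent.LD.QC Groth.Agent.H5.ExtTilde

variable {X X' : Scheme.{u}} (p : X' ⟶ X) (V' : X'.Modules)

/-- `p_* V'`. -/
noncomputable abbrev NN : X.Modules := (Scheme.Modules.pushforward p).obj V'
/-- `p^* p_* V'`. -/
noncomputable abbrev PP : X'.Modules := (Scheme.Modules.pullback p).obj (NN p V')
/-- the counit. -/
noncomputable abbrev epsM : PP p V' ⟶ V' :=
  (Scheme.Modules.pullbackPushforwardAdjunction p).counit.app V'

/-- a morphism of modules on sections, as a linear map. -/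
noncomputable def appL {Y : Scheme.{u}} {F G : Y.Modules} (φ : F ⟶ G) (W : Y.Opens) :
    Γ(F, W) →ₗ[Γ(Y, W)] Γ(G, W) where
  toFun := φ.app W
  map_add' := fun a b => map_add _ a b
  map_smul' := fun r x => Scheme.Modules.Hom.app_smul φ r x

lemma appL_apply {Y : Scheme.{u}} {F G : Y.Modules} (φ : F ⟶ G) (W : Y.Opens) (x : Γ(F, W)) :
    appL φ W x = φ.app W x := rfl

section Data
variable {U : X.Opens} {W : X'.Opens} (hW : W ≤ p ⁻¹ᵁ U)

/-- `Γ(X', p⁻¹U)` as a `Γ(X, U)`-algebra. -/
@[reducible] noncomputable def algAB (U : X.Opens) : Algebra Γ(X, U) Γ(X', p ⁻¹ᵁ U) :=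
  (p.app U).hom.toAlgebra

/-- `Γ(X', W)` as a `Γ(X, U)`-algebra. -/
@[reducible] noncomputable def algAC : Algebra Γ(X, U) Γ(X', W) :=
  (p.appLE U W hW).hom.toAlgebra

lemma towerABC :
    letI := algAB p U
    letI := algRes hW
    letI := algAC p hW
    IsScalarTower Γ(X, U) Γ(X', p ⁻¹ᵁ U) Γ(X', W) := by
  letI := algAB p U
  letI := algRes hW
  letI := algAC p hW
  refine IsScalarTower.of_algebraMap_eq fun a => ?_
  change (p.appLE U W hW).hom a = rho hW ((p.app U).hom a)
  rw [rho_apply, Scheme.Hom.appLE]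
  rfl

/-- `Γ(V', p⁻¹U) = Γ(p_* V', U)` as a `Γ(X, U)`-module. -/
@[reducible] noncomputable def modAM (U : X.Opens) : Module Γ(X, U) Γ(V', p ⁻¹ᵁ U) :=
  inferInstanceAs (Module Γ(X, U) Γ(NN p V', U))

lemma towerABM (U : X.Opens) :
    letI := algAB p U
    letI := modAM p V' U
    IsScalarTower Γ(X, U) Γ(X', p ⁻¹ᵁ U) Γ(V', p ⁻¹ᵁ U) := by
  letI := algAB p U
  letI := modAM p V' U
  exact IsScalarTower.of_algebraMap_smul fun a m => rfl

lemma towerABP :
    letI := algAB p U
    letI := pbModule p (NN p V') hW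
    letI := modRes (PP p V') hW
    IsScalarTower Γ(X, U) Γ(X', p ⁻¹ᵁ U) Γ(PP p V', W) := by
  letI := algAB p U
  letI := pbModule p (NN p V') hW
  letI := modRes (PP p V') hW
  refine IsScalarTower.of_algebraMap_smul fun a x => ?_
  change rho hW ((p.app U).hom a) • x = (p.appLE U W hW).hom a • x
  congr 1

/-- the pullback-section map, as a linear map out of `Γ(V', p⁻¹U)`. -/
noncomputable def iotaL :
    letI := modAM p V' U
    letI := pbModule p (NN p V') hW
    Γ(V', p ⁻¹ᵁ U) →ₗ[Γ(X, U)] Γ(PP p V', W) :=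
  pbSecₗ p (NN p V') hW

lemma iotaL_apply (m : Γ(V', p ⁻¹ᵁ U)) :
    iotaL p V' hW m = pbSec p (NN p V') hW (show Γ(NN p V', U) from m) := rfl

end Data

section Spl
variable [IsFinite p] [Etale p] [V'.IsQuasicoherent]

instance : (NN p V').IsQuasicoherent := qc_pushforward p V'

lemma etale_app {U : X.Opens} (hU : IsAffineOpen U) :
    letI := algAB p U
    Algebra.Etale Γ(X, U) Γ(X', p ⁻¹ᵁ U) := by
  letI := algAB p U
  have h := Etale.etale_appLE p hU (hU.preimage p) le_rfl
  rw [Scheme.Hom.appLE_eq_app] at h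
  exact h

variable {U : X.Opens} {W : X'.Opens} (hU : IsAffineOpen U) (hWa : IsAffineOpen W)
  (hW : W ≤ p ⁻¹ᵁ U)

include hU hWa in
lemma isBaseChange_iotaL :
    letI := algAC p hW
    letI := modAM p V' U
    letI := pbModule p (NN p V') hW
    haveI := pbModule_isScalarTower p (NN p V') hW
    IsBaseChange Γ(X', W) (iotaL p V' hW) :=
  isBaseChange_pbSec p hWa hU hW (NN p V')

/-- the local splitting of the counit over `W ⊆ p⁻¹ U`. -/
noncomputable def spl : Γ(V', W) →ₗ[Γ(X', W)] Γ(PP p V', W) :=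
  letI := algAB p U
  letI := algRes hW
  letI := algAC p hW
  haveI := towerABC p hW
  letI := modAM p V' U
  haveI := towerABM p V' U
  letI := pbModule p (NN p V') hW
  haveI := pbModule_isScalarTower p (NN p V') hW
  letI := modRes (PP p V') hW
  haveI := tower_res (PP p V') hW
  haveI := towerABP p V' hW
  letI := modRes V' hW
  haveI := tower_res V' hW
  haveI := etale_app p hU
  splitting (isBaseChange_iotaL p V' hU hWa hW)
    (isBaseChange_resL V' (hU.preimage p) hWa hW)

lemma eps_spl (q : Γ(V', W)) : (epsM p V').app W (spl p V' hU hWa hW q) = q := by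
  letI := algAB p U
  letI := algRes hW
  letI := algAC p hW
  haveI := towerABC p hW
  letI := modAM p V' U
  haveI := towerABM p V' U
  letI := pbModule p (NN p V') hW
  haveI := pbModule_isScalarTower p (NN p V') hW
  letI := modRes (PP p V') hW
  haveI := tower_res (PP p V') hW
  haveI := towerABP p V' hW
  letI := modRes V' hW
  haveI := tower_res V' hW
  haveI := etale_app p hU
  exact eps_splitting (isBaseChange_iotaL p V' hU hWa hW)
    (isBaseChange_resL V' (hU.preimage p) hWa hW) (ε := appL (epsM p V') W)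
    (fun m => counit_pbSec p V' hW m) q

/-- the local splitting is compatible with restriction to a smaller affine open. -/
lemma spl_res {W₂ : X'.Opens} (hW₂a : IsAffineOpen W₂) (h : W₂ ≤ W) (q : Γ(V', W)) :
    (PP p V').presheaf.map (homOfLE h).op (spl p V' hU hWa hW q) =
      spl p V' hU hW₂a (h.trans hW) (V'.presheaf.map (homOfLE h).op q) := by
  have hW₂ : W₂ ≤ p ⁻¹ᵁ U := h.trans hW
  letI := algAB p U
  letI := modAM p V' U
  haveI := towerABM p V' U
  haveI := etale_app p hU
  letI := algRes hW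
  letI := algAC p hW
  haveI := towerABC p hW
  letI := pbModule p (NN p V') hW
  haveI := pbModule_isScalarTower p (NN p V') hW
  letI := modRes (PP p V') hW
  haveI := tower_res (PP p V') hW
  haveI := towerABP p V' hW
  letI := modRes V' hW
  haveI := tower_res V' hW
  letI := algRes hW₂
  letI := algAC p hW₂
  haveI := towerABC p hW₂
  letI := pbModule p (NN p V') hW₂
  haveI := pbModule_isScalarTower p (NN p V') hW₂
  letI := modRes (PP p V') hW₂
  haveI := tower_res (PP p V') hW₂
  haveI := towerABP p V' hW₂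
  letI := modRes V' hW₂
  haveI := tower_res V' hW₂
  exact rP_splitting (isBaseChange_iotaL p V' hU hWa hW)
    (isBaseChange_resL V' (hU.preimage p) hWa hW)
    (isBaseChange_iotaL p V' hU hW₂a hW₂)
    (isBaseChange_resL V' (hU.preimage p) hW₂a hW₂)
    (X'.presheaf.map (homOfLE h).op).hom
    (fun b => by
      change X'.presheaf.map (homOfLE h).op (rho hW b) = rho hW₂ b
      rw [rho_apply, rho_apply, sres_res])
    ((PP p V').presheaf.map (homOfLE h).op).hom
    (fun c x => smul_res (PP p V') h c x)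
    (fun m => by
      change (PP p V').presheaf.map (homOfLE h).op (pbSec p (NN p V') hW _) =
        pbSec p (NN p V') hW₂ _
      rw [← pbSec_res p (NN p V') hW hW₂ h le_rfl, res_self])
    (V'.presheaf.map (homOfLE h).op).hom
    (fun c x => smul_res V' h c x)
    (fun m => res_res V' hW h m) q

/-- the local splitting does not depend on the affine open of the base (nested case). -/
lemma spl_changeBase {U₃ : X.Opens} (hU₃ : IsAffineOpen U₃) (h : U₃ ≤ U) (hW₃ : W ≤ p ⁻¹ᵁ U₃)
    (q : Γ(V', W)) :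
    spl p V' hU₃ hWa hW₃ q = spl p V' hU hWa hW q := by
  have hpre : p ⁻¹ᵁ U₃ ≤ p ⁻¹ᵁ U := p.preimage_mono h
  letI := algAB p U
  letI := modAM p V' U
  haveI := towerABM p V' U
  haveI := etale_app p hU
  letI := algRes hW
  letI := algAC p hW
  haveI := towerABC p hW
  letI := pbModule p (NN p V') hW
  haveI := pbModule_isScalarTower p (NN p V') hW
  letI := modRes (PP p V') hW
  haveI := tower_res (PP p V') hW
  haveI := towerABP p V' hW
  letI := modRes V' hW
  haveI := tower_res V' hW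
  letI := algAB p U₃
  letI := modAM p V' U₃
  haveI := towerABM p V' U₃
  haveI := etale_app p hU₃
  letI := algRes hW₃
  letI := algAC p hW₃
  haveI := towerABC p hW₃
  letI := pbModule p (NN p V') hW₃
  haveI := pbModule_isScalarTower p (NN p V') hW₃
  letI := modRes (PP p V') hW₃
  haveI := tower_res (PP p V') hW₃
  haveI := towerABP p V' hW₃
  letI := modRes V' hW₃
  haveI := tower_res V' hW₃
  exact splitting_changeBase (isBaseChange_iotaL p V' hU hWa hW)
    (isBaseChange_resL V' (hU.preimage p) hWa hW)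
    (isBaseChange_iotaL p V' hU₃ hWa hW₃)
    (isBaseChange_resL V' (hU₃.preimage p) hWa hW₃)
    (ε := appL (epsM p V') W)
    (fun m => counit_pbSec p V' hW m) (fun m => counit_pbSec p V' hW₃ m)
    (X'.presheaf.map (homOfLE hpre).op).hom
    (fun b => by
      change rho hW₃ (X'.presheaf.map (homOfLE hpre).op b) = rho hW b
      rw [rho_apply, rho_apply, sres_res])
    (fun m => V'.presheaf.map (homOfLE hpre).op m)
    (fun b m => smul_res V' hpre b m)
    (fun m => by
      change pbSec p (NN p V') hW _ = pbSec p (NN p V') hW₃ _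
      have h1 := pbSec_res p (NN p V') hW hW₃ le_rfl h (show Γ(NN p V', U) from m)
      rw [res_self] at h1
      exact h1.symm) q

/-- the local splitting does not depend on the affine open of the base. -/
lemma spl_indep {U₂ : X.Opens} (hU₂ : IsAffineOpen U₂) (hW₂ : W ≤ p ⁻¹ᵁ U₂) (q : Γ(V', W)) :
    spl p V' hU hWa hW q = spl p V' hU₂ hWa hW₂ q := by
  apply section_ext_of_cover (PP p V')
    (fun t : {t : X'.affineOpens × X.affineOpens //
      t.1.1 ≤ W ∧ t.1.1 ≤ p ⁻¹ᵁ t.2.1 ∧ t.2.1 ≤ U ⊓ U₂} => t.1.1.1)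
    (fun t => t.2.1)
  · intro x hx
    have hx' : p x ∈ U ⊓ U₂ := ⟨hW hx, hW₂ hx⟩
    obtain ⟨U₃, hU₃, hxU₃, hle⟩ := exists_isAffineOpen_mem_and_subset (x := p x)
      (U := U ⊓ U₂) hx'
    obtain ⟨W₃, hW₃, hxW₃, hle'⟩ := exists_isAffineOpen_mem_and_subset (x := x)
      (U := W ⊓ p ⁻¹ᵁ U₃) ⟨hx, hxU₃⟩
    exact Opens.mem_iSup.2 ⟨⟨(⟨W₃, hW₃⟩, ⟨U₃, hU₃⟩), hle'.trans inf_le_left,
      hle'.trans inf_le_right, hle⟩, hxW₃⟩
  · rintro ⟨⟨W₃, U₃⟩, h1, h2, h3⟩
    rw [spl_res p V' hU hWa hW W₃.2 h1 q, spl_res p V' hU₂ hWa hW₂ W₃.2 h1 q,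
      ← spl_changeBase p V' hU W₃.2 (h1.trans hW) U₃.2 (h3.trans inf_le_left) h2,
      ← spl_changeBase p V' hU₂ W₃.2 (h1.trans hW₂) U₃.2 (h3.trans inf_le_right) h2]

end Spl

section Main
variable [IsFinite p] [Etale p] [V'.IsQuasicoherent]

/-- **for a finite étale morphism, the counit `p^* p_* V' ⟶ V'` is a split epimorphism.** -/
theorem isSplitEpi_counit : IsSplitEpi (epsM p V') := by
  classical
  let P : X'.affineOpens → Prop := fun W => ∃ U : X.affineOpens, W.1 ≤ p ⁻¹ᵁ U.1
  have hPcov : ∀ x : X', ∃ W : X'.affineOpens, P W ∧ x ∈ W.1 := by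
    intro x
    obtain ⟨U, hU, hxU, -⟩ := exists_isAffineOpen_mem_and_subset (x := p x) (U := ⊤) trivial
    obtain ⟨W, hW, hxW, hWle⟩ := exists_isAffineOpen_mem_and_subset (x := x) (U := p ⁻¹ᵁ U) hxU
    exact ⟨⟨W, hW⟩, ⟨⟨U, hU⟩, hWle⟩, hxW⟩
  have hPdown : ∀ W W' : X'.affineOpens, P W → W'.1 ≤ W.1 → P W' := by
    rintro W W' ⟨U, hU⟩ h
    exact ⟨U, h.trans hU⟩
  let φ : ∀ W : {W : X'.affineOpens // P W},
      Γ(V', W.1.1) →ₗ[Γ(X', W.1.1)] Γ(PP p V', W.1.1) := fun W =>
    spl p V' W.2.choose.2 W.1.2 W.2.choose_spec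
  have nat : ∀ (W W₂ : {W : X'.affineOpens // P W}) (h : W₂.1.1 ≤ W.1.1) (s : Γ(V', W.1.1)),
      (PP p V').presheaf.map (homOfLE h).op (φ W s) =
        φ W₂ (V'.presheaf.map (homOfLE h).op s) := by
    intro W W₂ h s
    simp only [φ]
    rw [spl_res p V' W.2.choose.2 W.1.2 W.2.choose_spec W₂.1.2 h s]
    exact spl_indep p V' _ _ _ _ _ _
  let ψ : V' ⟶ PP p V' := Lim.homOfBasis P hPcov hPdown V' (PP p V') φ nat
  refine IsSplitEpi.mk' ⟨ψ, ?_⟩
  apply Scheme.Modules.hom_ext
  intro O
  ext x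
  apply section_ext_of_cover V'
    (fun W : {W : {W : X'.affineOpens // P W} // W.1.1 ≤ O} => W.1.1.1)
    (fun W => W.2) (Lim.le_iSup_PFam P hPcov hPdown O)
  intro W
  rw [← app_res, ← app_res, Scheme.Modules.Hom.comp_app]
  change (epsM p V').app W.1.1.1 (ψ.app W.1.1.1 _) = _
  rw [Lim.homOfBasis_app P hPcov hPdown V' (PP p V') φ nat W.1]
  exact eps_spl p V' _ _ _ _

end Main

end Groth.Agent.H5.EtSplit
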